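import Groth.Prelude.Def_Frob
import Mathlib.FieldTheory.PerfectClosure
import Mathlib.AlgebraicGeometry.AffineScheme
import Mathlib.AlgebraicGeometry.Morphisms.Etale
import Mathlib.AlgebraicGeometry.Morphisms.FlatMono
import Mathlib.AlgebraicGeometry.Morphisms.UniversallyInjective

/-!
# Perfect schemes and perfections: basic facts
-/

set_option autoImplicit false
set_option linter.style.haveILetI false

universe u

open CategoryTheory CategoryTheory.Limits AlgebraicGeometry Opposite

namespace Groth.Agent.Lib.Perfection.Basic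

variable (p : ℕ) [Fact p.Prime]

/-- sections of a scheme over `p = 0` -/
lemma isReduced_of_isPerfect (X : Scheme.{u}) [FrobSch.IsCharP X p] (hX : FrobSch.IsPerfect X p)
    (U : X.Opens) : Function.Bijective fun s : Γ(X, U) => s ^ p := by
  haveI : IsIso (FrobSch.frob X p) := hX
  haveI : IsIso ((FrobSch.frob X p).app U) := inferInstance
  exact ConcreteCategory.bijective_of_isIso ((FrobSch.frob X p).app U)

lemma bijective_pow_pow (X : Scheme.{u}) [FrobSch.IsCharP X p] (hX : FrobSch.IsPerfect X p)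
    (U : X.Opens) (n : ℕ) : Function.Bijective fun s : Γ(X, U) => s ^ p ^ n := by
  induction n with
  | zero => simp only [pow_zero, pow_one]; exact Function.bijective_id
  | succ n ih =>
    have := (isReduced_of_isPerfect p X hX U).comp ih
    convert this using 1
    funext s
    simp [pow_succ, pow_mul]

lemma pow_p_injective_of_isReduced {A : Type u} [CommRing A] [_root_.IsReduced A]
    (h : (p : A) = 0) : Function.Injective fun s : A => s ^ p := by
  intro a b hab
  have h1 : FrobSch.powHom p A h (a - b) = 0 := by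
    rw [map_sub]; simpa [sub_eq_zero] using hab
  have : IsNilpotent (a - b) := ⟨p, by simpa using h1⟩
  exact sub_eq_zero.mp (IsNilpotent.eq_zero this)

lemma map_map_self {Z : Scheme.{u}} {U V : Z.Opensᵒᵖ} (i : U ⟶ V) (j : V ⟶ U) (x : Γ(Z, U.unop)) :
    (Z.presheaf.map j).hom ((Z.presheaf.map i).hom x) = x := by
  change (Z.presheaf.map i ≫ Z.presheaf.map j).hom x = x
  rw [← Functor.map_comp, Subsingleton.elim (i ≫ j) (𝟙 U), Z.presheaf.map_id]
  rfl

/-- morphisms out of a reduced scheme are determined by the composite with Frobenius -/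
lemma eq_of_frob_comp_eq {Z X : Scheme.{u}} [FrobSch.IsCharP Z p] [IsReduced Z] (g₁ g₂ : Z ⟶ X)
    (h : FrobSch.frob Z p ≫ g₁ = FrobSch.frob Z p ≫ g₂) : g₁ = g₂ := by
  have hb : g₁.base = g₂.base := by
    have := congr_arg (fun k : Z ⟶ X => k.base) h
    simpa using this
  refine Scheme.Hom.ext hb (fun U => ?_)
  ext s
  apply pow_p_injective_of_isReduced p (FrobSch.natCast_eq_zero_app Z p _)
  have h3 := congr_arg (fun k => k.hom s) (Scheme.Hom.congr_app h U)
  change (g₁.app U s) ^ p = (Z.presheaf.map _).hom ((g₂.app U s) ^ p) at h3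
  change ((Z.presheaf.map _).hom (g₁.app U s)) ^ p = (g₂.app U s) ^ p
  rw [← map_pow, h3]
  exact map_map_self _ _ _

lemma universallyInjective_frob (X : Scheme.{u}) [FrobSch.IsCharP X p] :
    UniversallyInjective (FrobSch.frob X p) := by
  refine ((tfae_universallyInjective (FrobSch.frob X p)).out 0 1).mpr ?_
  intro K _ g₁ g₂ h
  haveI : FrobSch.IsCharP (Spec (CommRingCat.of K)) p := FrobSch.IsCharP.of_hom g₁ p
  apply eq_of_frob_comp_eq p
  simp only at h
  rwa [FrobSch.frob_comp, FrobSch.frob_comp]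

lemma surjective_frob (X : Scheme.{u}) [FrobSch.IsCharP X p] :
    Surjective (FrobSch.frob X p) := ⟨fun x => ⟨x, FrobSch.frob_apply X p x⟩⟩

/-- étale over perfect is perfect -/
lemma isPerfect_of_etale {X Y : Scheme.{u}} [FrobSch.IsCharP X p] [FrobSch.IsCharP Y p]
    (f : X ⟶ Y) [Etale f] (hY : FrobSch.IsPerfect Y p) : FrobSch.IsPerfect X p := by
  haveI : IsIso (FrobSch.frob Y p) := hY
  haveI : Etale (FrobSch.frob X p ≫ f) := by rw [FrobSch.frob_comp]; infer_instance
  haveI : Etale (FrobSch.frob X p) := Etale.of_comp (FrobSch.frob X p) f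
  haveI := universallyInjective_frob p X
  haveI := surjective_frob p X
  haveI : IsIso (pullback.diagonal (FrobSch.frob X p)) :=
    (isIso_iff_isOpenImmersion_and_surjective _).mpr
      ⟨inferInstance, (UniversallyInjective.iff_diagonal _).mp inferInstance⟩
  haveI : Mono (FrobSch.frob X p) := (pullback.isIso_diagonal_iff _).mp inferInstance
  haveI : IsOpenImmersion (FrobSch.frob X p) :=
    IsOpenImmersion.of_flat_of_mono _
  exact (isIso_iff_isOpenImmersion_and_surjective _).mpr ⟨inferInstance, inferInstance⟩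

/-- base change of a perfection along an étale map is a perfection -/
lemma isPerfection_pullback_of_etale {X Y YP P : Scheme.{u}} [FrobSch.IsCharP YP p]
    [FrobSch.IsCharP P p] {f : X ⟶ Y} {πY : YP ⟶ Y} {q : P ⟶ YP} {π : P ⟶ X}
    (hsq : IsPullback q π πY f) [Etale f] (hY : FrobSch.IsPerfection πY p) :
    FrobSch.IsPerfection π p := by
  haveI : Etale q := MorphismProperty.of_isPullback (P := @Etale) hsq.flip inferInstance
  refine ⟨isPerfect_of_etale p q hY.1, fun T _ hT => ⟨?_, ?_⟩⟩
  · intro g₁ g₂ h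
    apply hsq.hom_ext
    · apply (hY.2 T hT).1
      simp only [Category.assoc] at h ⊢
      rw [hsq.w]
      simpa only [Category.assoc] using congr_arg (· ≫ f) h
    · exact h
  · intro g
    obtain ⟨a, ha⟩ := (hY.2 T hT).2 (g ≫ f)
    exact ⟨hsq.lift a g ha, hsq.lift_snd _ _ _⟩

lemma exists_iso_of_isPerfection {P Q X : Scheme.{u}} [FrobSch.IsCharP P p] [FrobSch.IsCharP Q p]
    {π : P ⟶ X} {ρ : Q ⟶ X} (hπ : FrobSch.IsPerfection π p) (hρ : FrobSch.IsPerfection ρ p) :
    ∃ e : P ≅ Q, e.hom ≫ ρ = π := by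
  obtain ⟨a, ha⟩ := (hρ.2 P hπ.1).2 π
  obtain ⟨b, hb⟩ := (hπ.2 Q hρ.1).2 ρ
  simp only at ha hb
  refine ⟨⟨a, b, ?_, ?_⟩, ha⟩
  · exact (hπ.2 P hπ.1).1 (by simp [Category.assoc, hb, ha])
  · exact (hρ.2 Q hρ.1).1 (by simp [Category.assoc, hb, ha])

/-- the perfection of an étale morphism is cartesian -/
lemma isPullback_of_etale {X Y XP YP : Scheme.{u}} [FrobSch.IsCharP XP p] [FrobSch.IsCharP YP p]
    {πX : XP ⟶ X} {πY : YP ⟶ Y} (hX : FrobSch.IsPerfection πX p) (hY : FrobSch.IsPerfection πY p)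
    {f : X ⟶ Y} {fP : XP ⟶ YP} (w : fP ≫ πY = πX ≫ f) [Etale f] :
    IsPullback fP πX πY f := by
  haveI : FrobSch.IsCharP (pullback πY f) p := FrobSch.IsCharP.of_hom (pullback.fst πY f) p
  have hsq := IsPullback.of_hasPullback πY f
  obtain ⟨e, he⟩ := exists_iso_of_isPerfection p hX (isPerfection_pullback_of_etale p hsq hY)
  refine hsq.of_iso e.symm (Iso.refl _) (Iso.refl _) (Iso.refl _) ?_ ?_ (by simp) (by simp)
  · simp only [Iso.symm_hom, Iso.refl_hom, Category.comp_id]
    apply (hY.2 _ (isPerfect_of_etale p (pullback.fst πY f) hY.1)).1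
    simp only [Category.assoc, w]
    rw [pullback.condition, ← he]
    simp
  · simp [← he]

section Ring

variable (R : Type u) [CommRing R] [CharP R p]

lemma isPerfect_Spec [PerfectRing R p] : FrobSch.IsPerfect (Spec (CommRingCat.of R)) p := by
  have h : FrobSch.frob (Spec (CommRingCat.of R)) p =
      Spec.map (CommRingCat.ofHom (frobenius R p)) := by
    apply ext_of_isAffine
    ext s
    change s ^ p = _
    obtain ⟨y, rfl⟩ := (Scheme.ΓSpecIso _).commRingCatIsoToRingEquiv.symm.surjective s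
    change (Scheme.ΓSpecIso (CommRingCat.of R)).inv.hom y ^ p =
      ((Scheme.ΓSpecIso (CommRingCat.of R)).inv ≫
        (Spec.map (CommRingCat.ofHom (frobenius R p))).appTop).hom y
    rw [← Scheme.ΓSpecIso_inv_naturality]
    simp only [CommRingCat.hom_comp, RingHom.comp_apply, CommRingCat.hom_ofHom, frobenius_def,
      map_pow]
  unfold FrobSch.IsPerfect
  rw [h]
  haveI : IsIso (CommRingCat.ofHom (frobenius R p)) :=
    (RingEquiv.toCommRingCatIso (frobeniusEquiv R p)).isIso_hom
  infer_instance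

/-- the perfection of an affine scheme -/
noncomputable abbrev specπ : Spec (CommRingCat.of (PerfectClosure R p)) ⟶ Spec (CommRingCat.of R) :=
  Spec.map (CommRingCat.ofHom (PerfectClosure.of R p))

lemma exists_pow_eq_of (x : PerfectClosure R p) : ∃ n r, PerfectClosure.of R p r = x ^ p ^ n := by
  obtain ⟨⟨n, r⟩, rfl⟩ := PerfectClosure.mk_surjective R p x
  refine ⟨n, r, ?_⟩
  rw [← PerfectClosure.iterate_frobenius_mk, iterate_frobenius]

lemma isPerfection_specπ : FrobSch.IsPerfection (specπ p R) p := by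
  refine ⟨isPerfect_Spec p _, fun T _ hT => ⟨?_, ?_⟩⟩
  · intro g₁ g₂ h
    simp only at h
    apply ext_of_isAffine
    ext x
    obtain ⟨y, rfl⟩ := (Scheme.ΓSpecIso _).commRingCatIsoToRingEquiv.symm.surjective x
    obtain ⟨n, r, hr⟩ := exists_pow_eq_of p R y
    apply (bijective_pow_pow p T hT ⊤ n).1
    have h2 := congr_arg (fun k : T ⟶ Spec (CommRingCat.of R) =>
      k.appTop ((Scheme.ΓSpecIso _).inv r)) h
    simp only [Scheme.Hom.comp_appTop, CommRingCat.comp_apply] at h2
    have h3 : (specπ p R).appTop ((Scheme.ΓSpecIso (CommRingCat.of R)).inv r) =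
        (Scheme.ΓSpecIso (CommRingCat.of (PerfectClosure R p))).inv (PerfectClosure.of R p r) := by
      rw [← CommRingCat.comp_apply, ← Scheme.ΓSpecIso_inv_naturality, CommRingCat.comp_apply]
      rfl
    rw [h3, hr] at h2
    simp only [map_pow] at h2
    exact h2
  · intro g
    have hp0 : ((p : ℕ) : Γ(T, ⊤)) = 0 := FrobSch.IsCharP.natCast_eq_zero
    let φ : R →+* Γ(T, ⊤) := ((Scheme.ΓSpecIso (CommRingCat.of R)).inv ≫ g.appTop).hom
    obtain ⟨ψ, hψ⟩ : ∃ ψ : PerfectClosure R p →+* Γ(T, ⊤), ψ.comp (PerfectClosure.of R p) = φ := by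
      rcases subsingleton_or_nontrivial Γ(T, ⊤) with hs | hn
      · exact ⟨⟨⟨⟨fun _ => 0, Subsingleton.elim _ _⟩, fun _ _ => Subsingleton.elim _ _⟩,
          Subsingleton.elim _ _, fun _ _ => Subsingleton.elim _ _⟩,
          RingHom.ext fun _ => Subsingleton.elim _ _⟩
      · haveI : CharP Γ(T, ⊤) p := (CharP.charP_iff_prime_eq_zero Fact.out).2 hp0
        haveI : PerfectRing Γ(T, ⊤) p := ⟨isReduced_of_isPerfect p T hT ⊤⟩
        exact ⟨PerfectClosure.lift R p Γ(T, ⊤) φ, (PerfectClosure.lift R p Γ(T, ⊤)).left_inv φ⟩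
    refine ⟨T.toSpecΓ ≫ Spec.map (CommRingCat.ofHom ψ), ?_⟩
    simp only [Category.assoc, ← Spec.map_comp]
    apply ext_of_isAffine
    rw [← cancel_epi (Scheme.ΓSpecIso (CommRingCat.of R)).inv]
    rw [Scheme.Hom.comp_appTop, ← Scheme.ΓSpecIso_inv_naturality_assoc, Scheme.toSpecΓ_appTop]
    ext r
    simp only [CommRingCat.hom_comp, RingHom.comp_apply]
    change (Scheme.ΓSpecIso Γ(T, ⊤)).hom.hom ((Scheme.ΓSpecIso Γ(T, ⊤)).inv.hom
      ((ψ.comp (PerfectClosure.of R p)) r)) = _
    rw [hψ]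
    simp [φ]

end Ring

end Groth.Agent.Lib.Perfection.Basic
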