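import Groth.Agent.Lib.Perfection.Sections
import Groth.Prelude.Def_Flat
import Mathlib.AlgebraicGeometry.Morphisms.Flat
import Mathlib.AlgebraicGeometry.Morphisms.Immersion
import Mathlib.AlgebraicGeometry.Morphisms.Separated
import Mathlib.RingTheory.Flat.EquationalCriterion

/-!
# Properties of a morphism and of its perfection
-/

set_option autoImplicit false
set_option linter.style.haveILetI false

universe u

open CategoryTheory CategoryTheory.Limits AlgebraicGeometry Opposite

namespace Groth.Agent.Lib.Perfection.Morph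

open Groth.Agent.Lib.Perfection.Basic Groth.Agent.Lib.Perfection.Local
  Groth.Agent.Lib.Perfection.Sections

variable (p : ℕ) [Fact p.Prime]

section Algebra

variable {R S R' S' : CommRingCat.{u}} {φ : R ⟶ S} {ψ : R' ⟶ S'} {α : R ⟶ R'} {β : S ⟶ S'}

lemma pow_pp_bijective {A : Type u} [CommRing A] (h : Function.Bijective fun t : A => t ^ p)
    (n : ℕ) : Function.Bijective fun t : A => t ^ p ^ n := by
  induction n with
  | zero => simp only [pow_zero, pow_one]; exact Function.bijective_id
  | succ n ih =>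
    have := h.comp ih
    convert this using 1
    funext s
    simp [pow_succ, pow_mul]

/-- iterated `p`-th power as a ring endomorphism -/
def powPP {A : Type u} [CommRing A] (h : (p : A) = 0) : ℕ → (A →+* A)
  | 0 => RingHom.id A
  | n + 1 => (FrobSch.powHom p A h).comp (powPP h n)

lemma powPP_apply {A : Type u} [CommRing A] (h : (p : A) = 0) (n : ℕ) (a : A) :
    powPP p h n a = a ^ p ^ n := by
  induction n with
  | zero => simp [powPP]
  | succ n ih => simp [powPP, ih, pow_succ, pow_mul]

omit [Fact p.Prime] in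
lemma comm_apply (hc : φ ≫ β = α ≫ ψ) (r : R) :
    β.hom (φ.hom r) = ψ.hom (α.hom r) := by
  change (φ ≫ β).hom r = (α ≫ ψ).hom r
  rw [hc]

lemma surjective_of (hc : φ ≫ β = α ≫ ψ) (hR : Function.Bijective fun t : R' => t ^ p)
    (hS : Function.Bijective fun t : S' => t ^ p) (hβ : SecDesc p β)
    (h : Function.Surjective φ.hom) : Function.Surjective ψ.hom := by
  intro x
  obtain ⟨n, s, hs⟩ := hβ.1 x
  obtain ⟨r, rfl⟩ := h s
  obtain ⟨a, ha⟩ := (pow_pp_bijective p hR n).2 (α.hom r)
  refine ⟨a, (pow_pp_bijective p hS n).1 ?_⟩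
  simp only at ha ⊢
  rw [← map_pow, ha, ← comm_apply hc, hs]

lemma SecDesc.uniform {ι : Type} [Finite ι] {A B : CommRingCat.{u}} {γ : A ⟶ B} (h : SecDesc p γ)
    (x : ι → B) : ∃ N : ℕ, ∀ m, N ≤ m → ∀ i, ∃ r : A, γ.hom r = x i ^ p ^ m := by
  cases nonempty_fintype ι
  choose n r hr using fun i => h.1 (x i)
  refine ⟨Finset.univ.sup n, fun m hm i => ⟨r i ^ p ^ (m - n i), ?_⟩⟩
  rw [map_pow, hr, ← pow_mul, ← pow_add]
  congr 2
  have := Finset.le_sup (f := n) (Finset.mem_univ i)
  omega

lemma flat_of (hc : φ ≫ β = α ≫ ψ) (hR : Function.Bijective fun t : R' => t ^ p)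
    (hS : Function.Bijective fun t : S' => t ^ p) (hp : (p : R) = 0)
    (hα : SecDesc p α) (hβ : SecDesc p β)
    (h : φ.hom.Flat) : ψ.hom.Flat := by
  letI : Algebra R' S' := ψ.hom.toAlgebra
  letI : Algebra R S := φ.hom.toAlgebra
  have hflat : Module.Flat R S := h
  change Module.Flat R' S'
  rw [Module.Flat.iff_forall_isTrivialRelation]
  intro l f x hfx
  obtain ⟨N₁, hN₁⟩ := SecDesc.uniform p hα f
  obtain ⟨N₂, hN₂⟩ := SecDesc.uniform p hβ x
  choose r hr using hN₁ (N₁ + N₂) (Nat.le_add_right _ _)
  choose s hs using hN₂ (N₁ + N₂) (Nat.le_add_left _ _)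
  set N := N₁ + N₂
  have hp1 : (p : S) = 0 := by simpa using congr_arg φ.hom hp
  have hp2 : (p : S') = 0 := by simpa using congr_arg β.hom hp1
  have hp3 : (p : R') = 0 := by simpa using congr_arg α.hom hp
  have hsum : ∑ i, ψ.hom (f i) * x i = 0 := hfx
  have h0 : β.hom (∑ i, φ.hom (r i) * s i) = 0 := by
    have := congr_arg (powPP p hp2 N) hsum
    simp only [map_sum, map_mul, map_zero, powPP_apply] at this
    simp only [map_sum, map_mul, comm_apply hc, hr, hs, map_pow]
    exact this
  obtain ⟨M, hM⟩ := hβ.2 _ h0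
  have hM : ∑ i, φ.hom (r i ^ p ^ M) * s i ^ p ^ M = 0 := by
    have h1 : powPP p hp1 M (∑ i, φ.hom (r i) * s i) = 0 := by
      rw [powPP_apply]
      exact pow_eq_zero_of_le (Nat.lt_pow_self (Fact.out : p.Prime).one_lt).le hM
    simp only [map_sum, map_mul, powPP_apply] at h1
    simp only [map_pow]
    exact h1
  obtain ⟨κ, b, y, hby, hrb⟩ := Module.Flat.isTrivialRelation_of_sum_smul_eq_zero (R := R) (M := S)
    (f := fun i => r i ^ p ^ M) (x := fun i => s i ^ p ^ M)
    (by simp only [Algebra.smul_def, RingHom.algebraMap_toAlgebra]; exact hM)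
  choose a' ha' using fun i j => (pow_pp_bijective p hR (N + M)).2 (α.hom (b i j))
  choose y' hy' using fun j => (pow_pp_bijective p hS (N + M)).2 (β.hom (y j))
  simp only at ha' hy'
  refine ⟨κ, a', y', fun i => ?_, fun j => ?_⟩
  · apply (pow_pp_bijective p hS (N + M)).1
    have h1 := congr_arg β.hom (hby i)
    simp only [Algebra.smul_def, RingHom.algebraMap_toAlgebra, map_sum, map_mul, map_pow,
      comm_apply hc, hs, ← pow_mul, ← pow_add] at h1
    simp only [Algebra.smul_def, RingHom.algebraMap_toAlgebra]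
    rw [← powPP_apply p hp2 (N + M), ← powPP_apply p hp2 (N + M)]
    simp only [map_sum, map_mul, powPP_apply]
    rw [h1]
    refine Finset.sum_congr rfl fun j _ => ?_
    rw [← map_pow, ha', hy']
  · apply (pow_pp_bijective p hR (N + M)).1
    simp only
    rw [← powPP_apply p hp3 (N + M), ← powPP_apply p hp3 (N + M), map_zero]
    simp only [map_sum, map_mul, powPP_apply, ha']
    have h1 := congr_arg α.hom (hrb j)
    simp only [map_sum, map_mul, map_pow, map_zero, hr, ← pow_mul, ← pow_add] at h1
    exact h1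

end Algebra

/-- a qcqs open whose preimage in the perfection is affine is affine -/
lemma isAffineOpen_of_preimage {XP X : Scheme.{u}} [FrobSch.IsCharP X p] [FrobSch.IsCharP XP p]
    {π : XP ⟶ X} (hπ : FrobSch.IsPerfection π p) {W : X.Opens} (hc : IsCompact (W : Set X))
    (hq : IsQuasiSeparated (W : Set X)) (ha : IsAffineOpen (π ⁻¹ᵁ W)) : IsAffineOpen W := by
  haveI := surjective p hπ
  let S : Set Γ(X, W) := {h | IsAffineOpen (X.basicOpen h)}
  apply isAffineOpen_of_isAffineOpen_basicOpen W S ?_ (fun _ h => h)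
  have h1 : Ideal.span ((π.app W).hom '' S) = ⊤ := by
    rw [← ha.self_le_iSup_basicOpen_iff]
    intro x hx
    obtain ⟨U, hU, hxU, hUW⟩ := exists_isAffineOpen_mem_and_subset (x := π x) (U := W) hx
    obtain ⟨g, hgU, hxg⟩ := ha.exists_basicOpen_le (V := π ⁻¹ᵁ U) ⟨x, hxU⟩ hx
    obtain ⟨n, h, hh⟩ := exists_descend hπ hc hq g
    have hD : π ⁻¹ᵁ (X.basicOpen h) = XP.basicOpen g := by
      rw [Scheme.preimage_basicOpen]
      erw [hh]
      exact XP.basicOpen_pow g (pow_pos (Fact.out : p.Prime).pos n)
    have hle : X.basicOpen h ≤ U := by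
      intro z hz
      obtain ⟨y, rfl⟩ := π.surjective z
      have : y ∈ π ⁻¹ᵁ (X.basicOpen h) := hz
      rw [hD] at this
      exact hgU this
    have hS : h ∈ S := by
      change IsAffineOpen (X.basicOpen h)
      have := hU.basicOpen ((X.presheaf.map (homOfLE hUW).op).hom h)
      erw [Scheme.basicOpen_res] at this
      rwa [inf_eq_right.mpr hle] at this
    refine TopologicalSpace.Opens.mem_iSup.mpr ⟨⟨_, ⟨h, hS, rfl⟩⟩, ?_⟩
    rw [← Scheme.preimage_basicOpen, hD]
    exact hxg
  rw [Ideal.eq_top_iff_one]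
  have h2 : ∀ t ∈ Ideal.span ((π.app W).hom '' S), ∃ N, ∀ m, N ≤ m →
      ∃ j ∈ Ideal.span S, (π.app W).hom j = t ^ p ^ m := by
    intro t ht
    have hp0 := FrobSch.natCast_eq_zero_app XP p (π ⁻¹ᵁ W)
    induction ht using Submodule.span_induction with
    | mem t ht =>
      obtain ⟨h, hS, rfl⟩ := ht
      refine ⟨0, fun m _ => ⟨h ^ p ^ m, Ideal.pow_mem_of_mem _ (Ideal.subset_span hS) _
        (pow_pos (Fact.out : p.Prime).pos m), map_pow _ _ _⟩⟩
    | zero => exact ⟨0, fun m _ => ⟨0, zero_mem _, by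
        rw [map_zero, zero_pow (pow_ne_zero _ (Fact.out : p.Prime).ne_zero)]⟩⟩
    | add a b _ _ iha ihb =>
      obtain ⟨A, hA⟩ := iha
      obtain ⟨B, hB⟩ := ihb
      refine ⟨A + B, fun m hm => ?_⟩
      obtain ⟨i, hi, hia⟩ := hA m (le_trans (Nat.le_add_right _ _) hm)
      obtain ⟨j, hj, hjb⟩ := hB m (le_trans (Nat.le_add_left _ _) hm)
      refine ⟨i + j, add_mem hi hj, ?_⟩
      rw [map_add, hia, hjb, ← powPP_apply p hp0, ← powPP_apply p hp0, ← map_add, powPP_apply]
    | smul c a _ iha =>
      obtain ⟨A, hA⟩ := iha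
      obtain ⟨n, r, hr⟩ := exists_descend hπ hc hq c
      refine ⟨A + n, fun m hm => ?_⟩
      obtain ⟨i, hi, hia⟩ := hA m (le_trans (Nat.le_add_right _ _) hm)
      refine ⟨r ^ p ^ (m - n) * i, Ideal.mul_mem_left _ _ hi, ?_⟩
      rw [map_mul, map_pow, hr, hia, ← pow_mul, ← pow_add, smul_eq_mul, mul_pow]
      congr 3
      omega
  obtain ⟨N, hN⟩ := h2 1 (by rw [h1]; trivial)
  obtain ⟨j, hj, hj1⟩ := hN N le_rfl
  rw [one_pow] at hj1
  have hnil : IsNilpotent (j - 1) := isNilpotent_of_app_eq_zero hπ hc _ (by simp [hj1])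
  have hu : IsUnit j := by simpa using hnil.isUnit_add_one
  exact Ideal.eq_top_of_isUnit_mem _ hj hu ▸ trivial

lemma isUnivHomeo_of {A B : Scheme.{u}} (g : A ⟶ B) [UniversallyClosed g] [UniversallyInjective g]
    [Surjective g] : FlatMor.IsUnivHomeo g := by
  intro A' B' i₁ i₂ g' hsq
  haveI : UniversallyClosed g' :=
    MorphismProperty.of_isPullback (P := @UniversallyClosed) hsq.flip inferInstance
  haveI : UniversallyInjective g' :=
    MorphismProperty.of_isPullback (P := @UniversallyInjective) hsq.flip inferInstance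
  haveI : Surjective g' := MorphismProperty.of_isPullback (P := @Surjective) hsq.flip inferInstance
  exact isHomeomorph_iff_continuous_isClosedMap_bijective.mpr
    ⟨g'.continuous, g'.isClosedMap, g'.injective, g'.surjective⟩

lemma props_of_isUnivHomeo {A B : Scheme.{u}} {g : A ⟶ B} (h : FlatMor.IsUnivHomeo g) :
    UniversallyClosed g ∧ UniversallyInjective g ∧ Surjective g := by
  refine ⟨⟨fun _ _ _ _ _ hsq => (h _ _ _ hsq).isClosedMap⟩,
    ⟨fun _ _ _ _ _ hsq => (h _ _ _ hsq).injective⟩, ⟨?_⟩⟩
  exact (h _ _ g (IsPullback.of_id_snd)).surjective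

lemma isUnivHomeo_comp {A B C : Scheme.{u}} {g : A ⟶ B} {k : B ⟶ C}
    (hg : FlatMor.IsUnivHomeo g) (hk : FlatMor.IsUnivHomeo k) : FlatMor.IsUnivHomeo (g ≫ k) := by
  obtain ⟨a, b, c⟩ := props_of_isUnivHomeo hg
  obtain ⟨a', b', c'⟩ := props_of_isUnivHomeo hk
  haveI : UniversallyInjective (g ≫ k) :=
    MorphismProperty.comp_mem @UniversallyInjective g k b b'
  exact isUnivHomeo_of _

lemma isUnivHomeo_of_comp {A B C : Scheme.{u}} {g : A ⟶ B} {k : B ⟶ C}
    (hg : FlatMor.IsUnivHomeo g) (hk : FlatMor.IsUnivHomeo (g ≫ k)) : FlatMor.IsUnivHomeo k := by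
  intro B' C' i₁ i₂ k' hsq
  have h1 := IsPullback.of_hasPullback g i₁
  have hgs : IsHomeomorph (pullback.snd g i₁).base := hg _ _ _ h1.flip
  have h2 : IsHomeomorph (pullback.snd g i₁ ≫ k').base := hk _ _ _ (h1.flip.paste_horiz hsq)
  rw [Scheme.Hom.comp_base, TopCat.coe_comp] at h2
  change IsHomeomorph k'.base
  have := h2.comp hgs.homeomorph.symm.isHomeomorph
  convert this using 1
  funext y
  simp only [Function.comp_apply]
  exact congrArg k'.base (hgs.homeomorph.apply_symm_apply y).symm

lemma universallyInjective_of_comp {A B C : Scheme.{u}} (g : A ⟶ B) (k : B ⟶ C)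
    [UniversallyInjective (g ≫ k)] : UniversallyInjective g := by
  refine ((tfae_universallyInjective g).out 0 1).mpr fun K instK a b hab => ?_
  have h2 : ∀ (K : Type u) [Field K], Function.Injective (fun g' : Spec (.of K) ⟶ A => g' ≫ (g ≫ k)) :=
    ((tfae_universallyInjective (g ≫ k)).out 0 1).mp ‹UniversallyInjective (g ≫ k)›
  apply @h2 K instK
  simp only at hab ⊢
  rw [← Category.assoc, hab, Category.assoc]

lemma isUnivHomeo_π {XP X : Scheme.{u}} [FrobSch.IsCharP X p] [FrobSch.IsCharP XP p]
    {π : XP ⟶ X} (hπ : FrobSch.IsPerfection π p) : FlatMor.IsUnivHomeo π := by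
  haveI := isIntegralHom p hπ
  haveI := universallyInjective p hπ
  haveI := surjective p hπ
  exact isUnivHomeo_of π

variable {X Y XP YP : Scheme.{u}} [FrobSch.IsCharP X p] [FrobSch.IsCharP Y p]
  [FrobSch.IsCharP XP p] [FrobSch.IsCharP YP p]
  {πX : XP ⟶ X} {πY : YP ⟶ Y} (hX : FrobSch.IsPerfection πX p) (hY : FrobSch.IsPerfection πY p)
  {f : X ⟶ Y} {fP : XP ⟶ YP} (w : fP ≫ πY = πX ≫ f)

include hX hY w

omit [FrobSch.IsCharP X p] in
lemma base_apply (x : XP) : f (πX x) = πY (fP x) := by
  rw [← Scheme.Hom.comp_apply, ← Scheme.Hom.comp_apply, w]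

/-- the stalk square -/
lemma exists_stalk_square (x : XP) : ∃ (φ : Y.presheaf.stalk (πY (fP x)) ⟶ X.presheaf.stalk (πX x)),
    φ ≫ πX.stalkMap x = πY.stalkMap (fP x) ≫ fP.stalkMap x ∧
    (∀ (_ : Flat f), φ.hom.Flat) ∧ (∀ (_ : SurjectiveOnStalks f), Function.Surjective φ.hom) := by
  have e : (fP ≫ πY) x = (πX ≫ f) x := by rw [w]
  let i : Y.presheaf.stalk (πY (fP x)) ⟶ Y.presheaf.stalk (f (πX x)) :=
    (Y.presheaf.stalkCongr (Inseparable.of_eq e)).hom
  have hi : Function.Bijective i.hom :=
    ConcreteCategory.bijective_of_isIso (Y.presheaf.stalkCongr (Inseparable.of_eq e)).hom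
  refine ⟨i ≫ f.stalkMap (πX x), ?_, fun h => ?_, fun h => ?_⟩
  · rw [Category.assoc, ← Scheme.Hom.stalkMap_comp, ← Scheme.Hom.stalkMap_comp,
      Scheme.Hom.stalkMap_congr_hom _ _ w x]
    rfl
  · rw [CommRingCat.hom_comp]
    exact RingHom.Flat.comp (.of_bijective hi) ((Flat.iff_flat_stalkMap f).mp h _)
  · rw [CommRingCat.hom_comp]
    exact (f.stalkMap_surjective _).comp hi.2

theorem flat_perfection [Flat f] : Flat fP := by
  rw [Flat.iff_flat_stalkMap]
  intro x
  obtain ⟨φ, hc, hf, -⟩ := exists_stalk_square p hX hY w x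
  refine flat_of p hc (bijective_stalk_pow (p := p) hY.1 _) (bijective_stalk_pow (p := p) hX.1 _) ?_
    (secDesc_stalk hY _) (secDesc_stalk hX _) (hf inferInstance)
  simpa using congr_arg (Y.presheaf.germ ⊤ (πY (fP x)) trivial).hom
    (FrobSch.natCast_eq_zero_app Y p ⊤)

theorem surjectiveOnStalks_perfection [SurjectiveOnStalks f] : SurjectiveOnStalks fP := by
  refine ⟨fun x => ?_⟩
  obtain ⟨φ, hc, -, hf⟩ := exists_stalk_square p hX hY w x
  exact surjective_of p hc (bijective_stalk_pow (p := p) hY.1 _)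
    (bijective_stalk_pow (p := p) hX.1 _) (secDesc_stalk hX _) (hf inferInstance)

theorem quasiCompact_iff : QuasiCompact f ↔ QuasiCompact fP := by
  haveI := isIntegralHom p hX; haveI := isIntegralHom p hY
  haveI := surjective p hX
  constructor
  · intro h
    haveI : QuasiCompact (fP ≫ πY) := by rw [w]; infer_instance
    exact QuasiCompact.of_comp fP πY
  · intro h
    refine ⟨fun U hU hc => ?_⟩
    have : QuasiCompact (πX ≫ f) := by rw [← w]; infer_instance
    have h2 := (QuasiCompact.isCompact_preimage (f := πX ≫ f) U hU hc).image πX.continuous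
    rw [Scheme.Hom.comp_base, TopCat.coe_comp, Set.preimage_comp,
      Set.image_preimage_eq _ πX.surjective] at h2
    exact h2

/-- the map on fibre products induced by `πX` in both factors -/
noncomputable abbrev prodπ : pullback (πX ≫ f) (πX ≫ f) ⟶ pullback f f :=
  pullback.map _ _ _ _ πX πX (𝟙 Y) (by simp) (by simp)

omit [FrobSch.IsCharP X p] hY w [FrobSch.IsCharP Y p] [FrobSch.IsCharP YP p] in
lemma diagonal_comp_prodπ :
    pullback.diagonal (πX ≫ f) ≫ prodπ (πX := πX) (f := f) = πX ≫ pullback.diagonal f := by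
  apply pullback.hom_ext
  · rw [Category.assoc, Category.assoc, pullback.lift_fst, pullback.diagonal_fst_assoc,
      pullback.diagonal_fst, Category.comp_id]
  · rw [Category.assoc, Category.assoc, pullback.lift_snd, pullback.diagonal_snd_assoc,
      pullback.diagonal_snd, Category.comp_id]

omit hY w [FrobSch.IsCharP Y p] [FrobSch.IsCharP YP p] in
lemma isIntegralHom_prodπ : IsIntegralHom (prodπ (πX := πX) (f := f)) := by
  haveI := isIntegralHom p hX
  exact MorphismProperty.pullbackMap (P := @IsIntegralHom) ‹_› ‹_› rfl rfl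

theorem quasiSeparated_iff : QuasiSeparated f ↔ QuasiSeparated fP := by
  haveI := isIntegralHom p hX; haveI := isIntegralHom p hY
  haveI := surjective p hX
  constructor
  · intro h
    haveI : QuasiSeparated (fP ≫ πY) := by rw [w]; infer_instance
    exact QuasiSeparated.of_comp fP πY
  · intro h
    haveI : QuasiSeparated (πX ≫ f) := by rw [← w]; infer_instance
    haveI := isIntegralHom_prodπ p hX (f := f)
    refine ⟨?_⟩
    have h1 : QuasiCompact (πX ≫ pullback.diagonal f) := by
      rw [← diagonal_comp_prodπ p hX]; infer_instance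
    refine ⟨fun U hU hc => ?_⟩
    have h2 := (QuasiCompact.isCompact_preimage (f := πX ≫ pullback.diagonal f) U hU hc).image πX.continuous
    rw [Scheme.Hom.comp_base, TopCat.coe_comp, Set.preimage_comp,
      Set.image_preimage_eq _ πX.surjective] at h2
    exact h2

theorem isSeparated_iff : IsSeparated f ↔ IsSeparated fP := by
  haveI := isIntegralHom p hX; haveI := isIntegralHom p hY
  haveI := surjective p hX
  constructor
  · intro h
    haveI : IsSeparated (fP ≫ πY) := by rw [w]; infer_instance
    exact IsSeparated.of_comp fP πY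
  · intro h
    haveI : IsSeparated (πX ≫ f) := by rw [← w]; infer_instance
    haveI := isIntegralHom_prodπ p hX (f := f)
    refine ⟨IsClosedImmersion.of_isPreimmersion _ ?_⟩
    have h1 : IsClosed (Set.range (πX ≫ pullback.diagonal f)) := by
      rw [← diagonal_comp_prodπ p hX, Scheme.Hom.comp_base, TopCat.coe_comp, Set.range_comp]
      exact (prodπ (πX := πX) (f := f)).isClosedMap _ (pullback.diagonal (πX ≫ f)).isClosedEmbedding.isClosed_range
    rwa [Scheme.Hom.comp_base, TopCat.coe_comp,
      Function.Surjective.range_comp πX.surjective] at h1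

omit hX hY w [FrobSch.IsCharP X p] [FrobSch.IsCharP Y p] [FrobSch.IsCharP XP p]
  [FrobSch.IsCharP YP p] in
lemma universallyClosed_of_comp {A B C : Scheme.{u}} (g : A ⟶ B) (h : B ⟶ C)
    [UniversallyClosed (g ≫ h)] [IsSeparated h] : UniversallyClosed g := by
  haveI : MorphismProperty.HasOfPostcompProperty @UniversallyClosed @IsSeparated :=
    MorphismProperty.hasOfPostcompProperty_iff_le_diagonal.mpr
      fun _ _ k (hk : IsSeparated k) => by
        haveI := hk
        change UniversallyClosed (pullback.diagonal k)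
        infer_instance
  exact MorphismProperty.of_postcomp @UniversallyClosed (W' := @IsSeparated) g h inferInstance inferInstance

theorem universallyClosed_iff : UniversallyClosed f ↔ UniversallyClosed fP := by
  haveI := isIntegralHom p hX; haveI := isIntegralHom p hY
  haveI := surjective p hX
  constructor
  · intro h
    haveI : UniversallyClosed (fP ≫ πY) := by rw [w]; infer_instance
    exact universallyClosed_of_comp fP πY
  · intro h
    haveI : UniversallyClosed (πX ≫ f) := by rw [← w]; infer_instance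
    exact UniversallyClosed.of_comp_surjective πX f

theorem surjective_perfection [Surjective f] : Surjective fP := by
  haveI := surjective p hX
  refine ⟨fun y => ?_⟩
  obtain ⟨x, hx⟩ := (πX ≫ f).surjective (πY y)
  rw [← w, Scheme.Hom.comp_apply] at hx
  exact ⟨x, (isHomeomorph p hY).injective hx⟩

theorem isClosedImmersion_perfection [IsClosedImmersion f] : IsClosedImmersion fP := by
  haveI := surjectiveOnStalks_perfection p hX hY w
  refine ⟨?_⟩
  have h1 := (isHomeomorph p hY).homeomorph.symm.isClosedEmbedding.comp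
    (f.isClosedEmbedding.comp (isHomeomorph p hX).homeomorph.isClosedEmbedding)
  convert h1 using 1
  funext x
  simp only [Function.comp_apply]
  rw [eq_comm, Homeomorph.symm_apply_eq]
  exact base_apply p hX hY w x

theorem isOpenImmersion_perfection [IsOpenImmersion f] : IsOpenImmersion fP :=
  MorphismProperty.of_isPullback (P := @IsOpenImmersion)
    (isPullback_of_etale p hX hY w).flip inferInstance

theorem isImmersion_perfection [IsImmersion f] : IsImmersion fP := by
  haveI := surjectiveOnStalks_perfection p hX hY w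
  have h1 : Topology.IsEmbedding fP ∧ IsLocallyClosed (Set.range fP) := by
    have e : (fP : XP → YP) = (isHomeomorph p hY).homeomorph.symm ∘ f ∘ (isHomeomorph p hX).homeomorph := by
      funext x
      simp only [Function.comp_apply]
      rw [eq_comm, Homeomorph.symm_apply_eq]
      exact base_apply p hX hY w x
    rw [e]
    refine ⟨(isHomeomorph p hY).homeomorph.symm.isEmbedding.comp
      (f.isEmbedding.comp (isHomeomorph p hX).homeomorph.isEmbedding), ?_⟩
    rw [Set.range_comp, Set.range_comp, Homeomorph.range_coe, Set.image_univ]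
    exact f.isLocallyClosed_range.image (isHomeomorph p hY).homeomorph.symm.isEmbedding.isInducing
      (isHomeomorph p hY).homeomorph.symm.isOpenEmbedding.isOpen_range.isLocallyClosed
  haveI : IsPreimmersion fP := ⟨h1.1⟩
  exact ⟨h1.2⟩

theorem isUnivHomeo_iff : FlatMor.IsUnivHomeo f ↔ FlatMor.IsUnivHomeo fP := by
  have hπX := isUnivHomeo_π p hX
  have hπY := isUnivHomeo_π p hY
  haveI := isIntegralHom p hY
  constructor
  · intro h
    have h1 : FlatMor.IsUnivHomeo (fP ≫ πY) := by rw [w]; exact isUnivHomeo_comp hπX h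
    obtain ⟨h1a, h1b, h1c⟩ := props_of_isUnivHomeo h1
    obtain ⟨-, -, hYs⟩ := props_of_isUnivHomeo hπY
    haveI : UniversallyClosed fP := universallyClosed_of_comp fP πY
    haveI : UniversallyInjective fP := universallyInjective_of_comp fP πY
    haveI : Surjective fP := ⟨fun y => by
      obtain ⟨x, hx⟩ := (fP ≫ πY).surjective (πY y)
      exact ⟨x, (isHomeomorph p hY).injective hx⟩⟩
    exact isUnivHomeo_of fP
  · intro h
    exact isUnivHomeo_of_comp hπX (w ▸ isUnivHomeo_comp h hπY)

theorem isAffineHom_iff : IsAffineHom f ↔ IsAffineHom fP := by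
  haveI := isIntegralHom p hX; haveI := isIntegralHom p hY
  constructor
  · intro h
    haveI : IsAffineHom (fP ≫ πY) := by rw [w]; infer_instance
    exact IsAffineHom.of_comp fP πY
  · intro h
    haveI : QuasiCompact f := (quasiCompact_iff p hX hY w).mpr inferInstance
    haveI : QuasiSeparated f := (quasiSeparated_iff p hX hY w).mpr inferInstance
    refine ⟨fun V hV => ?_⟩
    apply isAffineOpen_of_preimage p hX (f.isCompact_preimage hV.isCompact)
      (f.isQuasiSeparated_preimage hV.isQuasiSeparated)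
    rw [← Scheme.Hom.comp_preimage, ← w]
    exact (hV.preimage (πY)).preimage fP

end Groth.Agent.Lib.Perfection.Morph
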