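import Groth.Agent.Lib.Perfection.Basic
import Mathlib.AlgebraicGeometry.Morphisms.Integral
import Mathlib.RingTheory.Spectrum.Prime.Homeomorph

/-!
# Local structure of a perfection
-/

set_option autoImplicit false
set_option linter.style.haveILetI false

universe u

open CategoryTheory CategoryTheory.Limits AlgebraicGeometry Opposite

namespace Groth.Agent.Lib.Perfection.Local

open Groth.Agent.Lib.Perfection.Basic

variable (p : ℕ) [Fact p.Prime]

lemma isPerfection_restrict {XP X : Scheme.{u}} [FrobSch.IsCharP XP p] {π : XP ⟶ X}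
    (hπ : FrobSch.IsPerfection π p) (U : X.Opens) [FrobSch.IsCharP (π ⁻¹ᵁ U : XP.Opens) p] :
    FrobSch.IsPerfection (π ∣_ U) p :=
  isPerfection_pullback_of_etale p (isPullback_morphismRestrict π U).flip hπ

lemma isPerfection_comp_iso {XP X Y : Scheme.{u}} [FrobSch.IsCharP XP p] {π : XP ⟶ X}
    (hπ : FrobSch.IsPerfection π p) (e : X ≅ Y) : FrobSch.IsPerfection (π ≫ e.hom) p := by
  refine ⟨hπ.1, fun T _ hT => ⟨?_, fun g => ?_⟩⟩
  · intro g₁ g₂ h
    apply (hπ.2 T hT).1
    simp only at h ⊢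
    rw [← cancel_mono e.hom]
    simpa only [Category.assoc] using h
  · obtain ⟨a, ha⟩ := (hπ.2 T hT).2 (g ≫ e.inv)
    simp only at ha
    exact ⟨a, by simp only; rw [← Category.assoc, ha]; simp⟩

lemma charP_of_nonempty {X : Scheme.{u}} [FrobSch.IsCharP X p] {U : X.Opens} [Nonempty U] :
    CharP Γ(X, U) p :=
  haveI : Nontrivial Γ(X, U) := inferInstance
  (CharP.charP_iff_prime_eq_zero Fact.out).2 (FrobSch.natCast_eq_zero_app X p U)

/-- over a non-empty affine open a perfection is the spectrum of the perfect closure -/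
lemma exists_iso_restrict {XP X : Scheme.{u}} [FrobSch.IsCharP X p] [FrobSch.IsCharP XP p]
    {π : XP ⟶ X} (hπ : FrobSch.IsPerfection π p) {U : X.Opens} (hU : IsAffineOpen U)
    [CharP Γ(X, U) p] :
    ∃ e : (π ⁻¹ᵁ U).toScheme ≅ Spec (CommRingCat.of (PerfectClosure Γ(X, U) p)),
      π ∣_ U = e.hom ≫ specπ p Γ(X, U) ≫ hU.isoSpec.inv := by
  haveI : FrobSch.IsCharP (π ⁻¹ᵁ U : XP.Opens) p := FrobSch.IsCharP.of_hom (π ⁻¹ᵁ U).ι p
  obtain ⟨e, he⟩ := exists_iso_of_isPerfection p
    (isPerfection_comp_iso p (isPerfection_restrict p hπ U) hU.isoSpec)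
    (isPerfection_specπ p Γ(X, U))
  exact ⟨e, by rw [← Category.assoc]; exact (Iso.eq_comp_inv _).mpr he.symm⟩

lemma isEmpty_preimage {XP X : Scheme.{u}} (π : XP ⟶ X) (U : X.Opens) [IsEmpty U] :
    IsEmpty (π ⁻¹ᵁ U) :=
  ⟨fun x => IsEmpty.false (α := U) ⟨π x.1, x.2⟩⟩

/-- a property local on the target holding for `Spec R_perf → Spec R` holds for every perfection -/
lemma property_of_specπ (P : MorphismProperty Scheme.{u}) [IsZariskiLocalAtTarget P]
    (hiso : ∀ {A B : Scheme.{u}} (g : A ⟶ B) [IsIso g], P g)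
    (hP : ∀ (R : Type u) [CommRing R] [CharP R p], P (specπ p R))
    {XP X : Scheme.{u}} [FrobSch.IsCharP X p] [FrobSch.IsCharP XP p]
    {π : XP ⟶ X} (hπ : FrobSch.IsPerfection π p) : P π := by
  refine IsZariskiLocalAtTarget.of_iSup_eq_top _ (iSup_affineOpens_eq_top X) fun U => ?_
  rcases isEmpty_or_nonempty U.1 with hU | hU
  · exact hiso (π ∣_ U.1)
  · haveI := charP_of_nonempty p (U := U.1)
    obtain ⟨e, he⟩ := exists_iso_restrict p hπ U.2
    rw [he, P.cancel_left_of_respectsIso, P.cancel_right_of_respectsIso]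
    exact hP _

lemma isIntegral_of (R : Type u) [CommRing R] [CharP R p] :
    (PerfectClosure.of R p).IsIntegral := by
  intro x
  obtain ⟨n, r, hr⟩ := exists_pow_eq_of p R x
  letI := (PerfectClosure.of R p).toAlgebra
  exact IsIntegral.of_pow (pow_pos (Fact.out : p.Prime).pos n) (hr ▸ isIntegral_algebraMap)

lemma ker_of_le (R : Type u) [CommRing R] [CharP R p] :
    RingHom.ker (PerfectClosure.of R p) ≤ nilradical R := by
  intro r hr
  rw [RingHom.mem_ker, PerfectClosure.of_apply, PerfectClosure.zero_def,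
    PerfectClosure.mk_eq_iff] at hr
  obtain ⟨z, hz⟩ := hr
  simp only [zero_add, add_zero, iterate_frobenius] at hz
  refine ⟨p ^ z, ?_⟩
  rw [hz]
  exact zero_pow (pow_ne_zero _ (Fact.out : p.Prime).ne_zero)

lemma surjective_specπ (R : Type u) [CommRing R] [CharP R p] : Surjective (specπ p R) := by
  refine ⟨?_⟩
  refine (PrimeSpectrum.isHomeomorph_comap _ (fun x => ?_) (ker_of_le p R)).surjective
  obtain ⟨n, r, hr⟩ := exists_pow_eq_of p R x
  exact ⟨p ^ n, pow_pos (Fact.out : p.Prime).pos n, r, hr⟩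

lemma universallyInjective_specπ (R : Type u) [CommRing R] [CharP R p] :
    UniversallyInjective (specπ p R) := by
  refine ((tfae_universallyInjective (specπ p R)).out 0 1).mpr ?_
  intro K _ g₁ g₂ h
  obtain ⟨a, rfl⟩ := Spec.map_surjective g₁
  obtain ⟨b, rfl⟩ := Spec.map_surjective g₂
  simp only [← Spec.map_comp, Spec.map_inj] at h
  congr 1
  ext x
  obtain ⟨n, r, hr⟩ := exists_pow_eq_of p R x
  have h1 : (a.hom x) ^ p ^ n = (b.hom x) ^ p ^ n := by
    rw [← map_pow, ← map_pow, ← hr]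
    exact congr_arg (fun k => k.hom r) h
  by_cases hp : (p : K) = 0
  · haveI : CharP K p := (CharP.charP_iff_prime_eq_zero Fact.out).2 hp
    exact iterateFrobenius_inj K p n (by simpa [iterateFrobenius_def] using h1)
  · exact absurd (by rw [← map_natCast a.hom, CharP.cast_eq_zero, map_zero]) hp

section Properties

variable {XP X : Scheme.{u}} [FrobSch.IsCharP X p] [FrobSch.IsCharP XP p]
  {π : XP ⟶ X} (hπ : FrobSch.IsPerfection π p)

include hπ

lemma isIntegralHom : IsIntegralHom π :=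
  haveI : IsZariskiLocalAtTarget (@IsIntegralHom.{u}) := by
    set_option backward.isDefEq.respectTransparency.types false in infer_instance
  property_of_specπ p @IsIntegralHom (fun _ _ => inferInstance)
    (fun R _ _ => IsIntegralHom.SpecMap_iff.mpr (isIntegral_of p R)) hπ

lemma universallyInjective : UniversallyInjective π :=
  property_of_specπ p @UniversallyInjective (fun _ _ => inferInstance) (fun R _ _ => universallyInjective_specπ p R) hπ

lemma surjective : Surjective π :=
  property_of_specπ p @Surjective (fun _ _ => inferInstance) (fun R _ _ => surjective_specπ p R) hπ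

lemma isHomeomorph : IsHomeomorph π.base := by
  haveI := isIntegralHom p hπ
  haveI := universallyInjective p hπ
  haveI := surjective p hπ
  refine isHomeomorph_iff_continuous_isClosedMap_bijective.mpr
    ⟨π.continuous, π.isClosedMap, π.injective, π.surjective⟩

end Properties

/-- the content of the affine description on sections -/
def SecDesc {A B : CommRingCat.{u}} (φ : A ⟶ B) : Prop :=
  (∀ s : B, ∃ (n : ℕ) (r : A), φ.hom r = s ^ p ^ n) ∧ ∀ r : A, φ.hom r = 0 → IsNilpotent r

lemma SecDesc.comp_iso {A B A' B' : CommRingCat.{u}} {φ : A ⟶ B} (h : SecDesc p φ)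
    (a : A' ⟶ A) (b : B ⟶ B') [IsIso a] [IsIso b] : SecDesc p (a ≫ φ ≫ b) := by
  have ha := ConcreteCategory.bijective_of_isIso a
  have hb := ConcreteCategory.bijective_of_isIso b
  refine ⟨fun s => ?_, fun r hr => ?_⟩
  · obtain ⟨t, rfl⟩ := hb.2 s
    obtain ⟨n, r, hr⟩ := h.1 t
    obtain ⟨r', rfl⟩ := ha.2 r
    exact ⟨n, r', by simp only [CommRingCat.hom_comp, RingHom.comp_apply, hr, map_pow]⟩
  · simp only [CommRingCat.hom_comp, RingHom.comp_apply] at hr
    obtain ⟨m, hm⟩ := h.2 (a.hom r) (hb.1 (by rw [map_zero]; exact hr))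
    exact ⟨m, ha.1 (by rw [map_pow, map_zero]; exact hm)⟩

lemma SecDesc.of_eq {XP X : Scheme.{u}} (π : XP ⟶ X) {V W : X.Opens} (h : V = W)
    {Z : XP.Opensᵒᵖ} (i : op (π ⁻¹ᵁ V) ⟶ Z) [IsIso (XP.presheaf.map i)]
    (H : SecDesc p (π.app V ≫ XP.presheaf.map i)) : SecDesc p (π.app W) := by
  subst h
  have := H.comp_iso p (𝟙 _) (inv (XP.presheaf.map i))
  simpa using this

lemma secDesc_app {XP X : Scheme.{u}} [FrobSch.IsCharP X p] [FrobSch.IsCharP XP p]
    {π : XP ⟶ X} (hπ : FrobSch.IsPerfection π p) {U : X.Opens} (hU : IsAffineOpen U) :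
    SecDesc p (π.app U) := by
  rcases isEmpty_or_nonempty U with hE | hE
  · haveI := isEmpty_preimage π U
    haveI : Subsingleton Γ(XP, π ⁻¹ᵁ U) := CommRingCat.subsingleton_of_isTerminal
      (XP.sheaf.isTerminalOfEqEmpty (by ext x; simpa using fun hx => IsEmpty.false (α := (π ⁻¹ᵁ U : XP.Opens)) ⟨x, hx⟩))
    haveI : Subsingleton Γ(X, U) := CommRingCat.subsingleton_of_isTerminal
      (X.sheaf.isTerminalOfEqEmpty (by ext x; simpa using fun hx => IsEmpty.false (α := U) ⟨x, hx⟩))
    exact ⟨fun s => ⟨0, 0, Subsingleton.elim _ _⟩, fun r _ => ⟨1, Subsingleton.elim _ _⟩⟩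
  · haveI := charP_of_nonempty p (U := U)
    obtain ⟨e, he⟩ := exists_iso_restrict p hπ hU
    have h0 : SecDesc p (CommRingCat.ofHom (PerfectClosure.of Γ(X, U) p)) :=
      ⟨fun s => exists_pow_eq_of p _ s, fun r hr => ker_of_le p _ hr⟩
    have h1 : SecDesc p (specπ p Γ(X, U)).appTop := by
      have := h0.comp_iso p (Scheme.ΓSpecIso _).hom (Scheme.ΓSpecIso _).inv
      rwa [← Scheme.ΓSpecIso_naturality_assoc, Iso.hom_inv_id, Category.comp_id] at this
    have h2 : SecDesc p (π ∣_ U).appTop := by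
      rw [he, Scheme.Hom.comp_appTop, Scheme.Hom.comp_appTop, Category.assoc]
      haveI : IsIso hU.isoSpec.inv.appTop := Functor.map_isIso Scheme.Γ hU.isoSpec.inv.op
      haveI : IsIso e.hom.appTop := Functor.map_isIso Scheme.Γ e.hom.op
      exact h1.comp_iso p _ _
    rw [morphismRestrict_appTop] at h2
    exact SecDesc.of_eq p π U.ι_image_top _ h2

end Groth.Agent.Lib.Perfection.Local
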