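import Groth.Agent.Lib.Perfection.Local

/-!
# Sections of a perfection over quasi-compact quasi-separated opens, and stalks
-/

set_option autoImplicit false
set_option linter.style.haveILetI false

universe u

open CategoryTheory CategoryTheory.Limits AlgebraicGeometry Opposite

namespace Groth.Agent.Lib.Perfection.Sections

open Groth.Agent.Lib.Perfection.Basic Groth.Agent.Lib.Perfection.Local

variable (p : ℕ) [Fact p.Prime]

lemma sub_pow_pp {A : Type u} [CommRing A] (h : (p : A) = 0) (a b : A) (m : ℕ) :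
    (a - b) ^ p ^ m = a ^ p ^ m - b ^ p ^ m := by
  induction m with
  | zero => simp
  | succ m ih =>
    simp only [pow_succ, pow_mul, ih]
    exact map_sub (FrobSch.powHom p A h) _ _

variable {p}

lemma app_res {XP X : Scheme.{u}} (π : XP ⟶ X) {U V : X.Opens} (h : V ≤ U) (r : Γ(X, U)) :
    (π.app V).hom ((X.presheaf.map (homOfLE h).op).hom r) =
      (XP.presheaf.map (homOfLE (π.preimage_mono h)).op).hom ((π.app U).hom r) := by
  change (X.presheaf.map (homOfLE h).op ≫ π.app V).hom r = _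
  rw [π.naturality]
  rfl

variable {XP X : Scheme.{u}} [FrobSch.IsCharP X p] [FrobSch.IsCharP XP p]
  {π : XP ⟶ X} (hπ : FrobSch.IsPerfection π p)

include hπ

lemma isNilpotent_of_app_eq_zero {U : X.Opens} (hU : IsCompact (U : Set X)) (r : Γ(X, U))
    (hr : (π.app U).hom r = 0) : IsNilpotent r := by
  revert r hr
  refine compact_open_induction_on U hU ?_ ?_
  · intro r _
    haveI : Subsingleton Γ(X, (⊥ : X.Opens)) :=
      CommRingCat.subsingleton_of_isTerminal (X.sheaf.isTerminalOfEqEmpty rfl)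
    exact ⟨1, Subsingleton.elim _ _⟩
  · intro S _ U ih r hr
    have e1 : (π.app S).hom ((X.presheaf.map (homOfLE (le_sup_left : S ≤ S ⊔ U.1)).op).hom r) = 0 := by
      rw [app_res, hr, map_zero]
    have e2 : (π.app U.1).hom ((X.presheaf.map (homOfLE (le_sup_right : U.1 ≤ S ⊔ U.1)).op).hom r) = 0 := by
      rw [app_res, hr, map_zero]
    obtain ⟨a, ha⟩ := ih _ e1
    obtain ⟨b, hb⟩ := (secDesc_app p hπ U.2).2 _ e2
    refine ⟨a + b, X.sheaf.eq_of_locally_eq₂ (homOfLE le_sup_left) (homOfLE le_sup_right) le_rfl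
      _ _ ?_ ?_⟩
    · change (X.presheaf.map _).hom _ = (X.presheaf.map _).hom _
      rw [map_pow, map_zero]
      exact pow_eq_zero_of_le (Nat.le_add_right _ _) ha
    · change (X.presheaf.map _).hom _ = (X.presheaf.map _).hom _
      rw [map_pow, map_zero]
      exact pow_eq_zero_of_le (Nat.le_add_left _ _) hb

lemma exists_descend {U : X.Opens} (hU : IsCompact (U : Set X)) (hq : IsQuasiSeparated (U : Set X))
    (s : Γ(XP, π ⁻¹ᵁ U)) : ∃ (n : ℕ) (r : Γ(X, U)), (π.app U).hom r = s ^ p ^ n := by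
  revert hq s
  refine compact_open_induction_on U hU ?_ ?_
  · intro _ s
    haveI : Subsingleton Γ(XP, π ⁻¹ᵁ (⊥ : X.Opens)) :=
      CommRingCat.subsingleton_of_isTerminal (XP.sheaf.isTerminalOfEqEmpty rfl)
    exact ⟨0, 0, Subsingleton.elim _ _⟩
  · intro S hS U ih hq s
    obtain ⟨n₁, r₁, h₁⟩ := ih (hq.of_subset Set.subset_union_left)
      ((XP.presheaf.map (homOfLE (π.preimage_mono (le_sup_left : S ≤ S ⊔ U.1))).op).hom s)
    obtain ⟨n₂, r₂, h₂⟩ := (secDesc_app p hπ U.2).1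
      ((XP.presheaf.map (homOfLE (π.preimage_mono (le_sup_right : U.1 ≤ S ⊔ U.1))).op).hom s)
    let a := (X.presheaf.map (homOfLE (inf_le_left : S ⊓ U.1 ≤ S)).op).hom (r₁ ^ p ^ n₂)
    let b := (X.presheaf.map (homOfLE (inf_le_right : S ⊓ U.1 ≤ U.1)).op).hom (r₂ ^ p ^ n₁)
    have key : (π.app (S ⊓ U.1)).hom (a - b) = 0 := by
      simp only [a, b, map_sub, map_pow, app_res, h₁, h₂, sub_eq_zero]
      rw [← pow_mul, ← pow_mul, mul_comm (p ^ n₂), ← CommRingCat.comp_apply,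
        ← CommRingCat.comp_apply, ← Functor.map_comp, ← Functor.map_comp]
      rfl
    have hc : IsCompact ((S ⊓ U.1 : X.Opens) : Set X) :=
      hq _ _ Set.subset_union_left S.2 hS Set.subset_union_right U.1.2 U.2.isCompact
    obtain ⟨m, hm⟩ := isNilpotent_of_app_eq_zero hπ hc _ key
    have hm' : (a - b) ^ p ^ m = 0 :=
      pow_eq_zero_of_le (Nat.lt_pow_self (Fact.out : p.Prime).one_lt).le hm
    rw [sub_pow_pp p (FrobSch.natCast_eq_zero_app X p _), sub_eq_zero] at hm'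
    have hglue : X.sheaf.obj.map (homOfLE (inf_le_left : S ⊓ U.1 ≤ S)).op ((r₁ ^ p ^ n₂) ^ p ^ m) =
        X.sheaf.obj.map (homOfLE (inf_le_right : S ⊓ U.1 ≤ U.1)).op ((r₂ ^ p ^ n₁) ^ p ^ m) := by
      change (X.presheaf.map _).hom _ = (X.presheaf.map _).hom _
      simp only [map_pow]
      simp only [a, b, map_pow] at hm'
      exact hm'
    obtain ⟨t, ht₁, ht₂⟩ : ∃ t : Γ(X, S ⊔ U.1),
        (X.presheaf.map (homOfLE (le_sup_left : S ≤ S ⊔ U.1)).op).hom t = (r₁ ^ p ^ n₂) ^ p ^ m ∧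
        (X.presheaf.map (homOfLE (le_sup_right : U.1 ≤ S ⊔ U.1)).op).hom t = (r₂ ^ p ^ n₁) ^ p ^ m :=
      ⟨(X.sheaf.objSupIsoProdEqLocus S U.1).inv ⟨⟨_, _⟩, hglue⟩,
        X.sheaf.objSupIsoProdEqLocus_inv_fst _ _ _, X.sheaf.objSupIsoProdEqLocus_inv_snd _ _ _⟩
    refine ⟨n₁ + n₂ + m, t, ?_⟩
    refine XP.sheaf.eq_of_locally_eq₂ (homOfLE (π.preimage_mono le_sup_left))
      (homOfLE (π.preimage_mono le_sup_right)) le_rfl _ _ ?_ ?_
    · change (XP.presheaf.map _).hom _ = (XP.presheaf.map _).hom _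
      rw [← app_res π (le_sup_left : S ≤ S ⊔ U.1), map_pow, ht₁, map_pow, map_pow, h₁,
        ← pow_mul, ← pow_mul, pow_add, pow_add, mul_assoc]
    · change (XP.presheaf.map _).hom _ = (XP.presheaf.map _).hom _
      rw [← app_res π (le_sup_right : U.1 ≤ S ⊔ U.1), map_pow, ht₂, map_pow, map_pow, h₂,
        ← pow_mul, ← pow_mul, pow_add, pow_add, mul_comm (p ^ n₁) (p ^ n₂), mul_assoc]

omit hπ in
lemma bijective_stalk_pow {Y : Scheme.{u}} [FrobSch.IsCharP Y p] (hY : FrobSch.IsPerfect Y p)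
    (y : Y) : Function.Bijective fun t : Y.presheaf.stalk y => t ^ p := by
  have h0 : (p : Y.presheaf.stalk y) = 0 := by
    have := congr_arg (Y.presheaf.germ ⊤ y trivial).hom (FrobSch.natCast_eq_zero_app Y p ⊤)
    simpa using this
  refine ⟨fun a b hab => ?_, fun t => ?_⟩
  · obtain ⟨U, hyU, s, hs⟩ := Y.presheaf.exists_germ_eq (x := y) (a - b)
    have h1 : (a - b) ^ p = 0 := by
      simpa [sub_eq_zero] using (map_sub (FrobSch.powHom p _ h0) a b).trans (sub_eq_zero.mpr hab)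
    rw [← hs, ← map_pow, ← map_zero (Y.presheaf.germ U y hyU).hom] at h1
    obtain ⟨W, hyW, i₁, i₂, hW⟩ := Y.presheaf.germ_eq y hyU hyU _ _ h1
    have hz : ((Y.presheaf.map i₁.op).hom s) = 0 := by
      apply (isReduced_of_isPerfect p Y hY W).1
      simp only [zero_pow (Fact.out : p.Prime).ne_zero, ← map_pow]
      exact hW.trans (map_zero _)
    refine sub_eq_zero.mp ?_
    rw [← hs, ← TopCat.Presheaf.germ_res_apply Y.presheaf i₁ y hyW s]
    exact (congr_arg _ hz).trans (map_zero _)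
  · obtain ⟨U, hyU, s, rfl⟩ := Y.presheaf.exists_germ_eq (x := y) t
    obtain ⟨r, hr⟩ := (isReduced_of_isPerfect p Y hY U).2 s
    exact ⟨Y.presheaf.germ U y hyU r, by simp only [← map_pow]; exact congr_arg _ hr⟩

lemma secDesc_stalk (x : XP) : SecDesc p (π.stalkMap x) := by
  refine ⟨fun t => ?_, fun r hr => ?_⟩
  · obtain ⟨W, hxW, s, rfl⟩ := XP.presheaf.exists_germ_eq (x := x) t
    have ho : IsOpen (π.base '' (W : Set XP)) := (isHomeomorph p hπ).isOpenMap _ W.2
    obtain ⟨U, hU, hxU, hUW⟩ := exists_isAffineOpen_mem_and_subset (x := π x)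
      (U := ⟨_, ho⟩) ⟨x, hxW, rfl⟩
    have hle : π ⁻¹ᵁ U ≤ W := by
      intro z hz
      obtain ⟨w, hw, hwz⟩ := hUW hz
      rwa [← (isHomeomorph p hπ).injective hwz]
    obtain ⟨n, r, hr⟩ := (secDesc_app p hπ hU).1 ((XP.presheaf.map (homOfLE hle).op).hom s)
    refine ⟨n, X.presheaf.germ U (π x) hxU r, ?_⟩
    rw [Scheme.Hom.germ_stalkMap_apply]
    erw [hr]
    rw [map_pow]
    congr 1
    exact TopCat.Presheaf.germ_res_apply _ _ _ _ _
  · obtain ⟨V, hxV, s, rfl⟩ := X.presheaf.exists_germ_eq (x := π x) r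
    rw [Scheme.Hom.germ_stalkMap_apply, ← map_zero (XP.presheaf.germ (π ⁻¹ᵁ V) x hxV).hom] at hr
    obtain ⟨W, hxW, i₁, i₂, hW⟩ := XP.presheaf.germ_eq x hxV hxV _ _ hr
    have ho : IsOpen (π.base '' (W : Set XP)) := (isHomeomorph p hπ).isOpenMap _ W.2
    obtain ⟨U, hU, hxU, hUW⟩ := exists_isAffineOpen_mem_and_subset (x := π x)
      (U := ⟨_, ho⟩) ⟨x, hxW, rfl⟩
    have hle : π ⁻¹ᵁ U ≤ W := by
      intro z hz
      obtain ⟨w, hw, hwz⟩ := hUW hz
      rwa [← (isHomeomorph p hπ).injective hwz]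
    have hUV : U ≤ V := by
      intro z hz
      obtain ⟨w, hw, rfl⟩ := hUW hz
      exact i₁.le hw
    have h0 : (π.app U).hom ((X.presheaf.map (homOfLE hUV).op).hom s) = 0 := by
      rw [app_res]
      have := congr_arg (XP.presheaf.map (homOfLE hle).op).hom (hW.trans (map_zero _))
      rw [map_zero, ← CommRingCat.comp_apply, ← Functor.map_comp] at this
      exact this
    have hnil := ((secDesc_app p hπ hU).2 _ h0).map (X.presheaf.germ U (π x) hxU).hom
    have hg := TopCat.Presheaf.germ_res_apply X.presheaf (homOfLE hUV) (π x) hxU s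
    rwa [← hg]

end Groth.Agent.Lib.Perfection.Sections
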